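import Cfsg.Agent.SchurG.Sz8.Main
import Cfsg.Agent.Schur.Mx
import Cfsg.Agent.S1163

set_option autoImplicit false
set_option maxRecDepth 100000

namespace Cfsg.Agent.SchurG.Sz8
open Cfsg.Agent.Comp Cfsg.Agent.Schur Matrix

def I : List Nat := [nat_lit 1, nat_lit 16, nat_lit 256, nat_lit 4096, nat_lit 65536, nat_lit 1048576, nat_lit 16777216, nat_lit 268435456, nat_lit 4294967296, nat_lit 68719476736, nat_lit 1099511627776, nat_lit 17592186044416]

def C : List Nat := [nat_lit 1, nat_lit 16, nat_lit 256, nat_lit 4096]

def O : List Nat := [nat_lit 65536, nat_lit 1048576, nat_lit 16777216, nat_lit 268435456, nat_lit 4294967296, nat_lit 68719476736, nat_lit 1099511627776, nat_lit 17592186044416, nat_lit 65537, nat_lit 1048592, nat_lit 16777472, nat_lit 268439552]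

def en : Fin 4 → ℕ := Fin.val

def bs : List (Fin 4 → K8) := (List.finRange 4).map (fun j => Pi.single j 1) ++ (List.finRange 4).map (fun j => Pi.single j w8) ++ (List.finRange 4).map (fun j => Pi.single j (w8 * w8))

theorem ms : MS (nat_lit 2) (nat_lit 4) (nat_lit 15) (nat_lit 4) I C O bs en (w8 : K8) :=
  ⟨by decide +kernel, by decide +kernel, by decide +kernel, by decide +kernel, by decide +kernel⟩

def M : List (List Nat) :=
  [[nat_lit 4295032833, nat_lit 1048576, nat_lit 1099511628032, nat_lit 17592186044416, nat_lit 4294967297, nat_lit 68719476736, nat_lit 256, nat_lit 268439552, nat_lit 1, nat_lit 1048592, nat_lit 16777216, nat_lit 17592454479872],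
   [nat_lit 4294967296, nat_lit 68719476752, nat_lit 16777216, nat_lit 17592454483968, nat_lit 65537, nat_lit 16, nat_lit 1099511627776, nat_lit 17592186048512, nat_lit 4295032832, nat_lit 1048576, nat_lit 16777472, nat_lit 4096],
   [nat_lit 4295032832, nat_lit 73015558161, nat_lit 1168231104512, nat_lit 286331153, nat_lit 4295032833, nat_lit 73014444049, nat_lit 17826064, nat_lit 18764998443008, nat_lit 4294967297, nat_lit 17, nat_lit 1168248930304, nat_lit 18764998447377],
   [nat_lit 65537, nat_lit 68719542273, nat_lit 1168247947521, nat_lit 18691982950657, nat_lit 4295032832, nat_lit 4296081424, nat_lit 1103807709456, nat_lit 18696261144832, nat_lit 4295032833, nat_lit 73015558145, nat_lit 73015558401, nat_lit 17596481081601],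
   [nat_lit 17596482060544, nat_lit 4312797185, nat_lit 73299656721, nat_lit 18760417214736, nat_lit 69004759041, nat_lit 1168499539969, nat_lit 18691697672209, nat_lit 4563407120, nat_lit 18696262189072, nat_lit 17592203936016, nat_lit 286331136, nat_lit 17592472371201]]

theorem Mok : MOK (nat_lit 2) (nat_lit 4) bs en M := ms.mok (by decide +kernel)

/-- the matrices of the letters -/
def Mm : ℕ → Matrix (Fin 4) (Fin 4) (K8) := mat (nat_lit 4) bs en M

theorem satM : Sat Mm R := ms.sat Mok (by decide +kernel)

theorem mem : ∀ x < 5, (∀ i j, Lie.altForm4 (fun k => Mm x k i) (fun k => Mm x k j) =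
    Lie.altForm4 (Pi.single i 1) (Pi.single j 1)) ∧ Lie.star4 (Mm x) = (Mm x).map (· ^ 4) := by
  decide +kernel

theorem exists_iso (F : Type*) [Field F] [Fintype F] (hF : Fintype.card F = 8) :
    Nonempty (G ≃* Lie.Sz F 4) := by
  obtain ⟨e⟩ := exists_emb K8 F (by decide +kernel) hF
  have := simple
  refine equiv_mat pres hR (glMat_injective _) e.injective
    (fun x hx => mem_sz e (isUnit_of_sat satM (L := 5) (by decide +kernel) x hx) (mem x hx).1 (mem x hx).2) satM
    (by norm_num) (by decide +kernel) ?_
  rw [card.2.1]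
  exact (S1163.result (m := 1) le_rfl hF).1.le

end Cfsg.Agent.SchurG.Sz8
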