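import Cfsg.Agent.SchurG.Sz8.Pres

set_option autoImplicit false
set_option maxRecDepth 100000

namespace Cfsg.Agent.SchurG.Sz8
open Cfsg.Agent.Comp

noncomputable def n0 : Net :=
(Net.cons (nat_lit 0x8c61669c) (nat_lit 33)
(Net.cons (nat_lit 0x1cb8000005850) (nat_lit 16)
(Net.cons (nat_lit 0x15c00180003001c) (nat_lit 8)
(Net.cons (nat_lit 0xc1804040c080e) (nat_lit 4)
(Net.cons (nat_lit 0x400040002000000) (nat_lit 2)
(Net.cons (nat_lit 0x40000000) (nat_lit 1)
(Net.cons (nat_lit 0x80000000) (nat_lit 1)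
(Net.cons (nat_lit 0x22aa80814051440) (nat_lit 1)
(Net.cons (nat_lit 0x60626000200312) (nat_lit 2)
(Net.cons (nat_lit 0x16020a0801090b02) (nat_lit 4)
(Net.cons (nat_lit 0xf20060004d000c) (nat_lit 8)
(Net.cons (nat_lit 0xc5960000a5ec) (nat_lit 16)
(Net.cons (nat_lit 0xb561017c) (nat_lit 33)
Net.nil)))))))))))))

noncomputable def n1 : Net :=
(Net.cons (nat_lit 0xb561017c) (nat_lit 33)
(Net.cons (nat_lit 0x13a680000a5ec) (nat_lit 16)
(Net.cons (nat_lit 0x60010c004d000c) (nat_lit 8)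
(Net.cons (nat_lit 0x14081c0006060402) (nat_lit 4)
(Net.cons (nat_lit 0x4000000000000020) (nat_lit 2)
(Net.cons (nat_lit 0x80000000) (nat_lit 1)
(Net.cons (nat_lit 0x2a08a82045501110) (nat_lit 1)
(Net.cons (nat_lit 0x2660064020023032) (nat_lit 2)
(Net.cons (nat_lit 0x60412160f03070e) (nat_lit 4)
(Net.cons (nat_lit 0x1800a20003001c) (nat_lit 8)
(Net.cons (nat_lit 0x347e00005850) (nat_lit 16)
(Net.cons (nat_lit 0x8c61669c) (nat_lit 33)
Net.nil))))))))))))

noncomputable def n2 : Net :=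
(Net.cons (nat_lit 0xddbfd2a4) (nat_lit 33)
(Net.cons (nat_lit 0xa468000064f4) (nat_lit 16)
(Net.cons (nat_lit 0x6800e800c8003c) (nat_lit 8)
(Net.cons (nat_lit 0xc14001801080000) (nat_lit 4)
(Net.cons (nat_lit 0x44000010000220) (nat_lit 2)
(Net.cons (nat_lit 0x40000000) (nat_lit 1)
(Net.cons (nat_lit 0x80000000) (nat_lit 1)
(Net.cons (nat_lit 0xa822808004054114) (nat_lit 1)
(Net.cons (nat_lit 0x6206064610301222) (nat_lit 2)
(Net.cons (nat_lit 0x161a16000c0c0502) (nat_lit 4)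
(Net.cons (nat_lit 0x8e00ba001700f6) (nat_lit 8)
(Net.cons (nat_lit 0xf35600009504) (nat_lit 16)
(Net.cons (nat_lit 0x98ef33e2) (nat_lit 33)
Net.nil)))))))))))))

noncomputable def n3 : Net :=
(Net.cons (nat_lit 0x98ef33e2) (nat_lit 33)
(Net.cons (nat_lit 0x10ca00000c0f8) (nat_lit 16)
(Net.cons (nat_lit 0x1440170001600e0) (nat_lit 8)
(Net.cons (nat_lit 0x81008080a0a06) (nat_lit 4)
(Net.cons (nat_lit 0x4000444012000222) (nat_lit 2)
(Net.cons (nat_lit 0x80000000) (nat_lit 1)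
(Net.cons (nat_lit 0x8008822a41144114) (nat_lit 1)
(Net.cons (nat_lit 0x660246613201120) (nat_lit 2)
(Net.cons (nat_lit 0x181e0c1209070102) (nat_lit 4)
(Net.cons (nat_lit 0x116019600580016) (nat_lit 8)
(Net.cons (nat_lit 0x159960000ac0a) (nat_lit 16)
(Net.cons (nat_lit 0xddbfd2a4) (nat_lit 33)
Net.nil))))))))))))

noncomputable def n4 : Net :=
(Net.cons (nat_lit 0xc3aeb258) (nat_lit 33)
(Net.cons (nat_lit 0xc8a000008088) (nat_lit 16)
(Net.cons (nat_lit 0x10801b80004001c) (nat_lit 8)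
(Net.cons (nat_lit 0x180802080c) (nat_lit 4)
(Net.cons (nat_lit 0x4400000022020022) (nat_lit 2)
(Net.cons (nat_lit 0x80000000) (nat_lit 1)
(Net.cons (nat_lit 0x28a0a0aa01411114) (nat_lit 1)
(Net.cons (nat_lit 0x2204660620330220) (nat_lit 2)
(Net.cons (nat_lit 0x1e0000180d070c05) (nat_lit 4)
(Net.cons (nat_lit 0x10801b8000d0094) (nat_lit 8)
(Net.cons (nat_lit 0xc8a000001b63) (nat_lit 16)
(Net.cons (nat_lit 0xc3aeb658) (nat_lit 33)
Net.nil))))))))))))

noncomputable def T : List Net := [n0, n1, n2, n3, n4]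

theorem ok : TOK 65 T := TOK_of_ok (by decide +kernel)

def E : List (List Nat × List Nat) :=
  []

theorem sat : Sat (sig T) R :=
  sat_of_relsP ok (by norm_num) (show relsP (nat_lit 65) (nat_lit 7) (nat_lit 0) (nat_lit 7) T R = true by decide +kernel)

theorem eqs : ∀ e ∈ E, ev (sig T) e.1 = ev (sig T) e.2 := eqs_nil _

def lowW1 : List (List Nat) := [[0],
   [1],
   [2],
   [3]]

def lowW2 : List (List Nat) := [[0],
   [1]]

theorem low_2 : 7 ≤ Nat.card (genW (sig T) lowW2) :=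
  chain_step (W' := []) (b := 35) (n := 7) (m := 1) ok (le_of_subOK eqs (show subOK lowW2 [] E = true by decide +kernel)) (by decide +kernel)
    (le_ncard_of_orbGe ok (by norm_num) (show orbGe (nat_lit 65) (nat_lit 7) T lowW2 [0, 0, 0, 0, 0, 0] (nat_lit 35) (nat_lit 7) = true by decide +kernel))
    (chain_base ok [])

theorem low_1 : 448 ≤ Nat.card (genW (sig T) lowW1) :=
  chain_step (W' := lowW2) (b := 1) (n := 64) (m := 7) ok (le_of_subOK eqs (show subOK lowW1 lowW2 E = true by decide +kernel)) (by decide +kernel)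
    (le_ncard_of_ivl (a := 1) ok (by norm_num) (show Nat.beq (grow T lowW1 [2, 0, 2, 0, 2, 0, 2, 0, 2, 0, 2] (pt (nat_lit 1))) (ivl (nat_lit 1) (nat_lit 64)) = true by decide +kernel))
    low_2

theorem low : 29120 ≤ Nat.card (genW (sig T) (letters 5)) :=
  chain_step (W' := lowW1) (b := 0) (n := 65) (m := 448) ok (le_of_subOK eqs (show subOK (letters 5) lowW1 E = true by decide +kernel)) (by decide +kernel)
    (le_ncard_of_ivl (a := 0) ok (by norm_num) (show Nat.beq (grow T (letters 5) [4, 0, 0, 4, 0, 2, 0, 4, 0, 2, 0, 4] (pt (nat_lit 0))) (ivl (nat_lit 0) (nat_lit 65)) = true by decide +kernel))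
    low_1


end Cfsg.Agent.SchurG.Sz8
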