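import Cfsg.Agent.SchurG.Sz8.Pres
import Cfsg.Agent.SchurG.Sz8.Top

set_option autoImplicit false
set_option maxRecDepth 100000

namespace Cfsg.Agent.SchurG.Sz8
open Cfsg.Agent.Comp

namespace Tk1

noncomputable def t0 : Tr := (Tr.leaf (nat_lit 0xfffffffff000fffffffff000fffffffff000fffffffff000fffffffff000fffffffff000fffffffff000fffffffff000fffffffffc34fff055014c13fff013076832fff036012811fff011035430fff034010410fff010033000fff032031))

noncomputable def T : Tr := t0

def RT : List (List (List Nat)) := [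
  [],
  [[nat_lit 0, nat_lit 0, nat_lit 0, nat_lit 0, nat_lit 0, nat_lit 0]],
  []]

def HT : List (List (Nat × Nat × Nat)) := [
  [],
  [(0, 2, 0)],
  []]

def R : List (List Nat) :=
  [[0, 1],
   [1, 0],
   [0, 0, 0, 0, 0, 0, 0]]

def W : List (List Nat) := []

noncomputable def P : Par := ⟨T, (nat_lit 4), (nat_lit 15), (nat_lit 48), (nat_lit 12), (nat_lit 4095), (nat_lit 5), (nat_lit 31), (nat_lit 2), (nat_lit 23), (nat_lit 32), (nat_lit 0x18801), RT⟩

noncomputable def J0 : List Nat := [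
  nat_lit 0x1246412464124661111111111111111111111111111]

theorem c0 : chk T (nat_lit 4) (nat_lit 15) (nat_lit 48) (nat_lit 12) (nat_lit 4095) (nat_lit 5) (nat_lit 31) (nat_lit 2) (nat_lit 23) (nat_lit 32) (nat_lit 0x18801) (nat_lit 2) (nat_lit 3) RT (nat_lit 16) J0 (nat_lit 16) = true := by
  decide +kernel

theorem r0 : P.RowsOK 16 32 := chk_sound P _ _ _ J0 _ _ (by decide +kernel) c0

theorem index.{u} : IndexLe.{u} 2 R W 7 :=
  indexLe_of_cert P HT (by decide +kernel)
    (show P.RowsOK 16 32 from r0)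

end Tk1

theorem upK_1 : CardLe (genW s [[0], [1]]) 7 :=
  CardLe.tc (V' := []) (n := 7) (m := 1) [0, 1] Tk1.index pres.sat (by decide +kernel) (by decide +kernel) (by decide +kernel) (cardLe_nil s)

namespace Tk0

noncomputable def t0 : Tr := (Tr.node (nat_lit 1) (Tr.node (nat_lit 0) (Tr.leaf (nat_lit 0x622dfffc00b00b3064002c988affff002a068805881a5612bfffc05800af035c00558ca7fff015c005005680ac6229fffc00a01a9044a02ad8c9ffff0154004c05480a86227fffc00980a7022c0299809ffff014a029000980a34325fffc0510012014204510097fff0140027c00901994223fffc008809e013a0449048ffff0138026c0cb80114023fffc04d0099002202608c87fff012e00400ca80962221fffc00800950128024c0007fff012402440880090))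
(Tr.leaf (nat_lit 0x823bfffc00e81a10676032e0ce7fff01940070153011d8139fffc11a80c90190007200e7fff018e26d000e01c68037fffc1dc80c6003603160cd7fff107e006806201ba8135fffc08d80c30184006a00d7fff01821ae000d01bd8233fffc00c80c0017e06e200cffff017c02f400c822e8331fffc05e0018023c0a6e08c7fff003002ec05d00b98031fffc05c00b7003008858cbffff023c005c05b02a0612ffffc11780b50546005d8cb7fff01680058111039f)))
(Tr.node (nat_lit 2) (Tr.leaf (nat_lit 0xa14ffffc52007aa0368009e8d37fff079000980d987c8a24dfffc01305b9025018d68d2ffff0d9c00943a5864ca249fffc01204c508860abe8527fff116c1b040950024a049fffc31e832b004816c28d1ffff0e50008c0938940a247fffc01182b60b98230e0517fff066e24e806780228243fffc01081ad0d7a033a0d07fff125800804e0823f823ffffc00f8847118c08fa00fffff096410c800f80cd813dfffc06608420792007a0ceffff0692007429c83c7))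
(Tr.leaf (nat_lit 0xa16dfffc26681cc089a00da81affff028a18f001a86c2a065fffc422054f0064133e8d8ffff049e00c42de0537a05ffffc3a107c4005e1af28d77fff048600b81a002c1a25bfffc01682b0098a10c6856ffff0a8c0cf839f002da359fffc3d9802c06602112895ffff005617200960833a057fffc21d81ce005615268557fff10962334463802aa253fffc01482ca106e0eee854ffff0f621f2c3a70029a351fffc31d0028069424d2893ffff004e26fc45c03ca))))

noncomputable def T : Tr := t0

def RT : List (List (List Nat)) := [
  [[nat_lit 2, nat_lit 2, nat_lit 0, nat_lit 2, nat_lit 1],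
   [nat_lit 3, nat_lit 3, nat_lit 0, nat_lit 0, nat_lit 3],
   [nat_lit 5],
   [nat_lit 1, nat_lit 1, nat_lit 1, nat_lit 1, nat_lit 1, nat_lit 1],
   [nat_lit 1, nat_lit 2, nat_lit 2, nat_lit 0, nat_lit 2]],
  [[nat_lit 3, nat_lit 1, nat_lit 3, nat_lit 3, nat_lit 0],
   [nat_lit 2, nat_lit 1, nat_lit 1, nat_lit 2, nat_lit 2],
   [nat_lit 0, nat_lit 3, nat_lit 1, nat_lit 3, nat_lit 3],
   [nat_lit 0, nat_lit 0, nat_lit 0, nat_lit 0, nat_lit 0, nat_lit 0]],
  [[nat_lit 0, nat_lit 0, nat_lit 3, nat_lit 1, nat_lit 3],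
   [nat_lit 3, nat_lit 0, nat_lit 0, nat_lit 3, nat_lit 1],
   [nat_lit 1, nat_lit 3, nat_lit 3, nat_lit 0, nat_lit 0],
   [nat_lit 3, nat_lit 3, nat_lit 3, nat_lit 3, nat_lit 3, nat_lit 3]],
  [[nat_lit 0, nat_lit 2, nat_lit 1, nat_lit 1, nat_lit 2],
   [nat_lit 2, nat_lit 2, nat_lit 2, nat_lit 2, nat_lit 2, nat_lit 2],
   [nat_lit 1, nat_lit 3, nat_lit 0, nat_lit 2, nat_lit 2, nat_lit 2, nat_lit 1, nat_lit 2, nat_lit 0, nat_lit 0],
   [nat_lit 1, nat_lit 1, nat_lit 2, nat_lit 2, nat_lit 0],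
   [nat_lit 2, nat_lit 0, nat_lit 2, nat_lit 1, nat_lit 1]],
  []]

def HT : List (List (Nat × Nat × Nat)) := [
  [(1, 5, 0), (0, 5, 4), (2, 0, 0), (1, 4, 0), (1, 5, 5)],
  [(0, 5, 2), (1, 5, 3), (0, 5, 1), (0, 4, 0)],
  [(0, 5, 0), (0, 5, 5), (0, 5, 3), (1, 6, 0)],
  [(1, 5, 2), (0, 6, 0), (0, 7, 3), (1, 5, 4), (1, 5, 1)],
  []]

def R : List (List Nat) :=
  [[0, 1],
   [1, 0],
   [2, 3],
   [3, 2],
   [0, 0, 0, 0, 0, 0, 0],
   [0, 0, 3, 1, 3, 3],
   [2, 2, 2, 2, 2, 2, 2],
   [0, 0, 2, 1, 3, 0, 2, 2, 2, 1, 2],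
   [0, 0, 2, 2, 1, 3, 1, 2, 1, 3, 0, 3]]

def W : List (List Nat) := [[0],
   [1]]

noncomputable def P : Par := ⟨T, (nat_lit 4), (nat_lit 15), (nat_lit 90), (nat_lit 15), (nat_lit 32767), (nat_lit 7), (nat_lit 127), (nat_lit 4), (nat_lit 80), (nat_lit 80), (nat_lit 0xa410c01), RT⟩

noncomputable def J0 : List Nat := [
  nat_lit 0xac80020088408808880188002c08844400a110111002108840880842210220310004011084221,
  nat_lit 0xe2031000408b0d8801004421c406c4008022111403101040880888011100310005088080e21,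
  nat_lit 0xa203180044600802210228203886200080e210e202230063020b022102202938843880c6201,
  nat_lit 0x11c42c47062050a422188002222852110e71c18c4822d885b8b0e8ba1722022210545c0c6aa1]

theorem c0 : chk T (nat_lit 4) (nat_lit 15) (nat_lit 90) (nat_lit 15) (nat_lit 32767) (nat_lit 7) (nat_lit 127) (nat_lit 4) (nat_lit 80) (nat_lit 80) (nat_lit 0xa410c01) (nat_lit 3) (nat_lit 7) RT (nat_lit 16) J0 (nat_lit 16) = true := by
  decide +kernel

theorem r0 : P.RowsOK 16 80 := chk_sound P _ _ _ J0 _ _ (by decide +kernel) c0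

theorem index.{u} : IndexLe.{u} 4 R W 64 :=
  indexLe_of_cert P HT (by decide +kernel)
    (show P.RowsOK 16 80 from r0)

end Tk0

theorem upK : CardLe (genW s [[0], [1], [2], [3]]) 448 :=
  CardLe.tc (V' := [[0], [1]]) (n := 64) (m := 7) [0, 1, 2, 3] Tk0.index pres.sat (by decide +kernel) (by decide +kernel) (by decide +kernel) upK_1

theorem up : CardLe (gen s 5) 29120 := upK.step (Top.index _ s pres.sat)

end Cfsg.Agent.SchurG.Sz8
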